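import Groth.Prelude.Def_W4c3biextchowCx
import Groth.Agent.Lib.FlatCx.Elem
import Mathlib.Algebra.Homology.Homotopy

/-!
# The functor between the groupoids of two chain complexes
-/

universe v u

open CategoryTheory CategoryTheory.Limits
open Groth.Agent.Lib.FlatCx

namespace Groth.Agent.Lib.CxGrpd.Functor

open W4c3biextchow

variable {R : Type u} [Ring R] {C D : ChainComplex (ModuleCat.{v} R) ℕ} (f : C ⟶ D)

theorem prev_eq (j : ℕ) : (ComplexShape.down ℕ).prev j = j + 1 := ChainComplex.prev ℕ j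
theorem next_one : (ComplexShape.down ℕ).next 1 = 0 := ChainComplex.next_nat_succ 0
theorem next_zero : (ComplexShape.down ℕ).next 0 = 0 := ChainComplex.next_nat_zero

theorem mono_zero_iff : Mono (HomologicalComplex.homologyMap f 0) ↔
    ∀ (z : C.X 0) (y : D.X 1), D.d 1 0 y = f.f 0 z → ∃ y' : C.X 1, C.d 1 0 y' = z := by
  rw [ModuleCat.mono_iff_injective, Elem.injective_homologyMap_iff f (prev_eq 0) next_zero]
  exact ⟨fun h z y => h z (by simp [C.shape 0 0]) y, fun h z _ y => h z y⟩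

theorem epi_zero_iff : Epi (HomologicalComplex.homologyMap f 0) ↔
    ∀ z' : D.X 0, ∃ (z : C.X 0) (y : D.X 1), f.f 0 z = z' + D.d 1 0 y := by
  rw [ModuleCat.epi_iff_surjective, Elem.surjective_homologyMap_iff f (prev_eq 0) next_zero]
  exact ⟨fun h z' => by
      obtain ⟨z, y, -, he⟩ := h z' (by simp [D.shape 0 0])
      exact ⟨z, y, he⟩,
    fun h z' _ => by
      obtain ⟨z, y, he⟩ := h z'
      exact ⟨z, y, by simp [C.shape 0 0], he⟩⟩

theorem mono_one_iff : Mono (HomologicalComplex.homologyMap f 1) ↔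
    ∀ z : C.X 1, C.d 1 0 z = 0 → ∀ y : D.X 2, D.d 2 1 y = f.f 1 z → ∃ y', C.d 2 1 y' = z := by
  rw [ModuleCat.mono_iff_injective, Elem.injective_homologyMap_iff f (prev_eq 1) next_one]

theorem epi_one_iff : Epi (HomologicalComplex.homologyMap f 1) ↔
    ∀ z' : D.X 1, D.d 1 0 z' = 0 →
      ∃ (z : C.X 1) (y : D.X 2), C.d 1 0 z = 0 ∧ f.f 1 z = z' + D.d 2 1 y := by
  rw [ModuleCat.epi_iff_surjective, Elem.surjective_homologyMap_iff f (prev_eq 1) next_one]

theorem map_d (z : C.X 1) : D.d 1 0 (f.f 1 z) = f.f 0 (C.d 1 0 z) :=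
  congrArg (fun φ => φ.hom z) (f.comm 1 0)

theorem q1_eq_iff (x y : C.X 1) :
    (Submodule.Quotient.mk x : Q1 C) = Submodule.Quotient.mk y ↔ ∃ w, C.d 2 1 w = x - y := by
  rw [Submodule.Quotient.eq]
  rfl

/-- morphism from an element -/
def homOf {a b : Obj C} (x : C.X 1) (h : C.d 1 0 x = b.pt - a.pt) : a ⟶ b :=
  ⟨Submodule.Quotient.mk x, by rw [delta_mk]; exact h⟩

/-- isomorphism from an element -/
def isoOf {a b : Obj C} (x : C.X 1) (h : C.d 1 0 x = b.pt - a.pt) : a ≅ b where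
  hom := homOf x h
  inv := homOf (-x) (by rw [map_neg, h, neg_sub])
  hom_inv_id := W4c3biextchow.Hom.ext (by
    show Submodule.Quotient.mk x + Submodule.Quotient.mk (-x) = (0 : Q1 C)
    rw [← Submodule.Quotient.mk_add, add_neg_cancel]; rfl)
  inv_hom_id := W4c3biextchow.Hom.ext (by
    show Submodule.Quotient.mk (-x) + Submodule.Quotient.mk x = (0 : Q1 C)
    rw [← Submodule.Quotient.mk_add, neg_add_cancel]; rfl)

theorem exists_rep {a b : Obj C} (φ : a ⟶ b) :
    ∃ x : C.X 1, ∃ h : C.d 1 0 x = b.pt - a.pt, φ = homOf x h := by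
  obtain ⟨x, hx⟩ := Submodule.Quotient.mk_surjective _ φ.cl
  refine ⟨x, ?_, W4c3biextchow.Hom.ext hx.symm⟩
  rw [← φ.delta_cl, ← hx, delta_mk]

theorem essSurj_iff : (cxFunctor f).EssSurj ↔ Epi (HomologicalComplex.homologyMap f 0) := by
  rw [epi_zero_iff]
  constructor
  · intro h z'
    obtain ⟨a, ⟨e⟩⟩ := h.mem_essImage ⟨z'⟩
    obtain ⟨x, hx, -⟩ := exists_rep e.hom
    refine ⟨a.pt, -x, ?_⟩
    rw [map_neg, hx]
    simp
  · intro h
    refine ⟨fun b => ?_⟩
    obtain ⟨z, y, hzy⟩ := h b.pt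
    refine ⟨⟨z⟩, ⟨isoOf (-y) ?_⟩⟩
    rw [map_neg, cxFunctor_obj_pt, show (f.f 0).hom z = _ from hzy]
    abel

theorem faithful_iff : (cxFunctor f).Faithful ↔ Mono (HomologicalComplex.homologyMap f 1) := by
  rw [mono_one_iff]
  constructor
  · intro h z hz y hy
    let a : Obj C := ⟨0⟩
    have h1 : homOf (a := a) (b := a) z (by rw [hz, sub_self]) = homOf 0 (by rw [map_zero, sub_self]) := by
      apply h.map_injective
      apply W4c3biextchow.Hom.ext
      show q1Map f (Submodule.Quotient.mk z) = q1Map f (Submodule.Quotient.mk 0)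
      rw [q1Map_mk, q1Map_mk, map_zero, q1_eq_iff]
      exact ⟨y, by rw [sub_zero]; exact hy⟩
    have h2 := congrArg (fun φ : W4c3biextchow.Hom C a a => φ.cl) h1
    obtain ⟨w, hw⟩ := (q1_eq_iff z 0).1 h2
    exact ⟨w, by rw [hw, sub_zero]⟩
  · intro h
    refine ⟨fun {a b} φ ψ he => ?_⟩
    obtain ⟨x, hx, rfl⟩ := exists_rep φ
    obtain ⟨x', hx', rfl⟩ := exists_rep ψ
    have he' := congrArg (fun φ : W4c3biextchow.Hom D _ _ => φ.cl) he
    obtain ⟨w, hw⟩ := (q1_eq_iff _ _).1 (show (Submodule.Quotient.mk ((f.f 1).hom x) : Q1 D) =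
      Submodule.Quotient.mk ((f.f 1).hom x') from he')
    apply W4c3biextchow.Hom.ext
    show (Submodule.Quotient.mk x : Q1 C) = Submodule.Quotient.mk x'
    rw [q1_eq_iff]
    exact h (x - x') (by rw [map_sub, hx, hx', sub_self]) w (hw.trans (map_sub _ _ _).symm)

theorem full_iff : (cxFunctor f).Full ↔
    Epi (HomologicalComplex.homologyMap f 1) ∧ Mono (HomologicalComplex.homologyMap f 0) := by
  rw [epi_one_iff, mono_zero_iff]
  constructor
  · intro h
    refine ⟨fun z' hz' => ?_, fun z y hy => ?_⟩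
    · let a : Obj C := ⟨0⟩
      obtain ⟨φ, hφ⟩ := h.map_surjective
        (homOf (a := (cxFunctor f).obj a) (b := (cxFunctor f).obj a) z' (by rw [hz', sub_self]))
      obtain ⟨x, hx, rfl⟩ := exists_rep φ
      have he' := congrArg (fun φ : W4c3biextchow.Hom D _ _ => φ.cl) hφ
      obtain ⟨w, hw⟩ := (q1_eq_iff _ _).1 (show (Submodule.Quotient.mk ((f.f 1).hom x) : Q1 D) =
        Submodule.Quotient.mk z' from he')
      exact ⟨x, w, by rw [hx, sub_self], by
        rw [show D.d 2 1 w = (f.f 1).hom x - z' from hw]; exact (add_sub_cancel z' _).symm⟩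
    · let a : Obj C := ⟨0⟩
      let b : Obj C := ⟨z⟩
      obtain ⟨φ, hφ⟩ := h.map_surjective
        (homOf (a := (cxFunctor f).obj a) (b := (cxFunctor f).obj b) y (by
          rw [hy, cxFunctor_obj_pt, cxFunctor_obj_pt]
          show _ = (f.f 0).hom z - (f.f 0).hom 0
          simp))
      obtain ⟨x, hx, rfl⟩ := exists_rep φ
      exact ⟨x, by rw [hx]; exact sub_zero z⟩
  · rintro ⟨he, hm⟩
    refine ⟨fun {a b} φ => ?_⟩
    obtain ⟨y, hy, rfl⟩ := exists_rep φ
    have hy' : D.d 1 0 y = f.f 0 (b.pt - a.pt) := by rw [hy, map_sub]; rfl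
    obtain ⟨x, hx⟩ := hm _ y hy'
    obtain ⟨z, w, hz, hzw⟩ := he (y - f.f 1 x) (by
      rw [map_sub, hy', map_d, hx, sub_self])
    refine ⟨homOf (x + z) (by rw [map_add, hx, hz, add_zero]), W4c3biextchow.Hom.ext ?_⟩
    show q1Map f (Submodule.Quotient.mk (x + z)) = Submodule.Quotient.mk y
    rw [q1Map_mk, q1_eq_iff]
    refine ⟨w, ?_⟩
    rw [map_add, show (f.f 1).hom z = _ from hzw]
    show D.d 2 1 w = f.f 1 x + (y - f.f 1 x + D.d 2 1 w) - y
    abel

/-- A homotopy gives an isomorphism of functors. -/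
theorem exists_natIso {g₁ g₂ : C ⟶ D} (H : Homotopy g₁ g₂) :
    ∃ N : cxFunctor g₁ ≅ cxFunctor g₂, ∀ a : Obj C,
      (N.hom.app a : W4c3biextchow.Hom D _ _).cl = Submodule.Quotient.mk (-(H.hom 0 1).hom a.pt) := by
  have h0 : ∀ x : C.X 0, g₁.f 0 x = D.d 1 0 (H.hom 0 1 x) + g₂.f 0 x := by
    intro x
    have h := H.comm 0
    rw [dNext_eq_zero _ _ (by simp), zero_add, prevD_eq H.hom (show (ComplexShape.down ℕ).Rel 1 0 by simp)] at h
    exact congrArg (fun φ => φ.hom x) h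
  have h1 : ∀ x : C.X 1, g₁.f 1 x =
      H.hom 0 1 (C.d 1 0 x) + D.d 2 1 (H.hom 1 2 x) + g₂.f 1 x := by
    intro x
    have h := H.comm 1
    rw [dNext_eq H.hom (show (ComplexShape.down ℕ).Rel 1 0 by simp),
      prevD_eq H.hom (show (ComplexShape.down ℕ).Rel 2 1 by simp)] at h
    exact congrArg (fun φ => φ.hom x) h
  refine ⟨NatIso.ofComponents (fun a => isoOf (-(H.hom 0 1).hom a.pt) ?_) ?_, fun a => rfl⟩
  · rw [map_neg, cxFunctor_obj_pt, cxFunctor_obj_pt, h0 a.pt]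
    abel
  · intro a b φ
    obtain ⟨x, hx, rfl⟩ := exists_rep φ
    apply W4c3biextchow.Hom.ext
    show q1Map g₁ (Submodule.Quotient.mk x) + Submodule.Quotient.mk (-(H.hom 0 1).hom b.pt) =
      Submodule.Quotient.mk (-(H.hom 0 1).hom a.pt) + q1Map g₂ (Submodule.Quotient.mk x)
    rw [q1Map_mk, q1Map_mk, ← Submodule.Quotient.mk_add, ← Submodule.Quotient.mk_add, q1_eq_iff]
    refine ⟨H.hom 1 2 x, ?_⟩
    rw [h1 x, hx, map_sub]
    abel

end Groth.Agent.Lib.CxGrpd.Functor
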