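import Mathlib.CategoryTheory.Abelian.Projective.Resolution
import Mathlib.Algebra.Homology.HomologySequenceLemmas
import Mathlib.Algebra.Homology.HomologicalComplexAbelian
import Mathlib.Algebra.Category.ModuleCat.Abelian
import Mathlib.Algebra.Category.ModuleCat.Projective
import Mathlib.Algebra.Homology.ShortComplex.ModuleCat
import Mathlib.LinearAlgebra.Quotient.Basic

/-!
# Short exact sequences of chain complexes of projectives with acyclic quotient split
-/

universe v u

open CategoryTheory CategoryTheory.Limits ZeroObject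

namespace Groth.Agent.Lib.CxGrpd.Split

section
variable {C : Type u} [Category.{v} C] [Abelian C]

/-- A bounded-below acyclic complex of projectives is contractible. -/
noncomputable def contract (X : ChainComplex C ℕ) [∀ i, Projective (X.X i)]
    (hX : X.Acyclic) : Homotopy (𝟙 X) 0 := by
  have hz : IsZero ((ChainComplex.single₀ C).obj (0 : C)) :=
    Functor.map_isZero _ (isZero_zero C)
  have hq : QuasiIso (0 : X ⟶ (ChainComplex.single₀ C).obj (0 : C)) := by
    rw [quasiIso_iff]
    intro i
    rw [quasiIsoAt_iff_isIso_homologyMap]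
    have h2 : IsZero (((ChainComplex.single₀ C).obj (0 : C)).homology i) :=
      Functor.map_isZero (HomologicalComplex.homologyFunctor C (ComplexShape.down ℕ) i) hz
    exact isIso_of_source_target_iso_zero _
      ((hX i).isZero_homology).isoZero h2.isoZero
  let P : ProjectiveResolution (0 : C) := { complex := X, π := 0, quasiIso := hq }
  exact ProjectiveResolution.liftHomotopy (𝟙 0) (P := P) (Q := P) (𝟙 _) 0
    (hz.eq_of_tgt _ _) (hz.eq_of_tgt _ _)

variable {S : ShortComplex (ChainComplex C ℕ)}

theorem acyclic_quot (hS : S.ShortExact) [QuasiIso S.f] : S.X₃.Acyclic :=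
  fun i => hS.exactAt_X₃ i

/-- A chain-level section of the quotient map. -/
theorem exists_section (hS : S.ShortExact) [QuasiIso S.f] [∀ i, Projective (S.X₃.X i)] :
    ∃ h : S.X₃ ⟶ S.X₂, h ≫ S.g = 𝟙 _ := by
  have hepi : ∀ i, Epi (S.g.f i) := fun i =>
    have := hS.epi_g
    inferInstance
  let s := contract S.X₃ (acyclic_quot hS)
  refine ⟨Homotopy.nullHomotopicMap (fun i j => s.hom i j ≫ Projective.factorThru (𝟙 _) (S.g.f j)), ?_⟩
  rw [Homotopy.nullHomotopicMap_comp]
  have : (fun i j => (s.hom i j ≫ Projective.factorThru (𝟙 _) (S.g.f j)) ≫ S.g.f j) = s.hom := by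
    funext i j
    rw [Category.assoc, Projective.factorThru_comp, Category.comp_id]
  rw [this]
  ext i
  have := s.comm i
  rw [HomologicalComplex.zero_f, add_zero] at this
  exact this.symm

/-- A retraction of the injection. -/
theorem exists_retraction (hS : S.ShortExact) [QuasiIso S.f] [∀ i, Projective (S.X₃.X i)] :
    ∃ g : S.X₂ ⟶ S.X₁, S.f ≫ g = 𝟙 _ := by
  obtain ⟨h, hh⟩ := exists_section hS
  have := hS.mono_f
  refine ⟨hS.exact.lift (𝟙 _ - S.g ≫ h) (by simp [hh]), ?_⟩
  rw [← cancel_mono S.f, Category.assoc, ShortComplex.Exact.lift_f]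
  simp

/-- Two retractions are homotopic relative to the subcomplex. -/
theorem exists_homotopy (hS : S.ShortExact) [QuasiIso S.f] [∀ i, Projective (S.X₃.X i)]
    (g₁ g₂ : S.X₂ ⟶ S.X₁) (h₁ : S.f ≫ g₁ = 𝟙 _) (h₂ : S.f ≫ g₂ = 𝟙 _) :
    ∃ H : Homotopy g₁ g₂, ∀ i j : ℕ, S.f.f i ≫ H.hom i j = 0 := by
  have := hS.epi_g
  let w : S.X₃ ⟶ S.X₁ := hS.exact.desc (g₁ - g₂) (by simp [h₁, h₂])
  have hw : S.g ≫ w = g₁ - g₂ := ShortComplex.Exact.g_desc _ _ _
  let s := ((contract S.X₃ (acyclic_quot hS)).compRight w).compLeft S.g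
  refine ⟨Homotopy.equivSubZero.symm
    (((Homotopy.ofEq (by simp [hw])).trans s).trans (Homotopy.ofEq (by simp))), fun i j => ?_⟩
  have hfg : S.f.f i ≫ S.g.f i = 0 := by
    rw [← HomologicalComplex.comp_f, S.zero]; rfl
  simp [s, Homotopy.equivSubZero, reassoc_of% hfg]

end

section
variable {R : Type u} [Ring R] (A' A : ChainComplex (ModuleCat.{v} R) ℕ) (f : A' ⟶ A)

theorem map_range_le (i j : ℕ) :
    LinearMap.range (f.f i).hom ≤ (LinearMap.range (f.f j).hom).comap (A.d i j).hom := by
  rintro _ ⟨x, rfl⟩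
  exact ⟨(A'.d i j).hom x, (congrArg (fun φ => φ.hom x) (f.comm i j)).symm⟩

/-- The degreewise quotient complex. -/
noncomputable def quot : ChainComplex (ModuleCat.{v} R) ℕ where
  X q := ModuleCat.of R (A.X q ⧸ LinearMap.range (f.f q).hom)
  d i j := ModuleCat.ofHom (Submodule.mapQ _ _ (A.d i j).hom (map_range_le A' A f i j))
  shape i j h := by
    apply ModuleCat.hom_ext
    refine Submodule.linearMap_qext _ (LinearMap.ext fun x => ?_)
    simp [A.shape i j h]
  d_comp_d' i j k _ _ := by
    apply ModuleCat.hom_ext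
    refine Submodule.linearMap_qext _ (LinearMap.ext fun x => ?_)
    have := congrArg (fun φ => φ.hom x) (A.d_comp_d i j k)
    show Submodule.Quotient.mk ((A.d j k).hom ((A.d i j).hom x)) = 0
    rw [show (A.d j k).hom ((A.d i j).hom x) = 0 from this]
    rfl

/-- The projection to the quotient complex. -/
noncomputable def proj : A ⟶ quot A' A f where
  f q := ModuleCat.ofHom (LinearMap.range (f.f q).hom).mkQ
  comm' i j _ := by
    apply ModuleCat.hom_ext
    exact LinearMap.ext fun x => rfl

theorem comp_proj : f ≫ proj A' A f = 0 := by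
  ext q x
  exact (Submodule.Quotient.mk_eq_zero _).2 ⟨x, rfl⟩

theorem shortExact_of {A'' : ChainComplex (ModuleCat.{v} R) ℕ} (p : A ⟶ A'') (w : f ≫ p = 0)
    (hf : ∀ q, Function.Injective (f.f q).hom) (hp : ∀ q, Function.Surjective (p.f q).hom)
    (hfp : ∀ q, Function.Exact (f.f q).hom (p.f q).hom) :
    (ShortComplex.mk f p w).ShortExact :=
  HomologicalComplex.shortExact_of_degreewise_shortExact _ fun q =>
    ModuleCat.shortComplex_shortExact _ (hfp q) (hf q) (hp q)

theorem shortExact_quot (hf : ∀ q, Function.Injective (f.f q).hom) :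
    (ShortComplex.mk f (proj A' A f) (comp_proj A' A f)).ShortExact :=
  shortExact_of A' A f _ _ hf (fun q => Submodule.mkQ_surjective _)
    (fun q => LinearMap.exact_map_mkQ_range _)

end

/-- Free abelian groups are projective, whichever `ℤ`-module structure is used. -/
theorem projective_int (M : Type v) [AddCommGroup M] [i : Module ℤ M]
    (h : @Module.Free ℤ M _ _ (AddCommGroup.toIntModule _)) :
    CategoryTheory.Projective (ModuleCat.of ℤ M) := by
  obtain rfl : i = AddCommGroup.toIntModule M := AddCommGroup.uniqueIntModule.uniq i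
  infer_instance

theorem projective_int' (P : ModuleCat.{v} ℤ)
    (h : @Module.Free ℤ P _ _ (AddCommGroup.toIntModule _)) : CategoryTheory.Projective P :=
  projective_int P h

end Groth.Agent.Lib.CxGrpd.Split
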